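import Groth.Agent.QRlimLib.Unbounded
import Groth.Agent.FMKLib.Hyper
import Groth.Agent.DCohRestrLib.MV
import Groth.Agent.TildeDerLib.Affine
import Groth.Agent.KoszOrthLib.Main
import Groth.Agent.KoszOrthLib.Section
import Groth.Agent.FlatRelPCLib.Basic
import Groth.Agent.DRingLib.Basic
import Groth.Agent.S0010
import Groth.Prelude.Def_HTor

/-!
# The amplitude of derived global sections over an affine base
-/

set_option autoImplicit false
set_option linter.style.haveILetI false
set_option backward.isDefEq.respectTransparency false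
set_option backward.isDefEq.respectTransparency.types false
set_option maxHeartbeats 1000000

universe u

open CategoryTheory CategoryTheory.Limits AlgebraicGeometry CategoryTheory.Pretriangulated Opposite
open DerivedCategory.TStructure (t)
open Groth.Agent

attribute [local instance] HasDerivedCategory.standard FlatRelPCLib.tildeExact

noncomputable section

namespace RGammaBoundLib

section Ring

variable {R : Type u} [CommRing R]

/-- A map from the free module of rank one to an object without cohomology in degree zero vanishes. -/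
theorem hom_single_eq_zero (Y : DerivedCategory (ModuleCat.{u} R))
    (hY : IsZero ((DerivedCategory.homologyFunctor (ModuleCat.{u} R) 0).obj Y))
    (φ : DerivedCategory.Q.obj ((CochainComplex.singleFunctor (ModuleCat.{u} R) 0).obj (ModuleCat.of R R)) ⟶ Y) :
    φ = 0 := by
  let P := (CochainComplex.singleFunctor (ModuleCat.{u} R) 0).obj (ModuleCat.of R R)
  haveI : P.IsKProjective := DRingLib.isKProjective_of_projective P 0
    (fun i hi => HomologicalComplex.isZero_single_obj_X _ _ _ _ (by omega))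
    (fun i => by
      by_cases hi : i = 0
      · subst hi
        exact Module.Projective.of_equiv
          (HomologicalComplex.singleObjXSelf (ComplexShape.up ℤ) 0 (ModuleCat.of R R)).symm.toLinearEquiv
      · haveI : Module.Free R (P.X i) := DRingLib.free_of_isZero
          (HomologicalComplex.isZero_single_obj_X (ComplexShape.up ℤ) 0 (ModuleCat.of R R) i hi)
        exact Module.Projective.of_free)
  have hT := t.triangleLEGT_distinguished (-1) Y
  haveI : ((t.truncGT (-1)).obj Y).IsGE 1 := by
    rw [DerivedCategory.isGE_iff]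
    intro j hj
    rcases lt_or_ge j 0 with hj' | hj'
    · haveI : ((t.truncGT (-1)).obj Y).IsGE 0 := t.isGE_truncGT_obj Y (-1) 0 (by omega)
      exact DerivedCategory.isZero_of_isGE _ 0 j hj'
    · obtain rfl : j = 0 := by omega
      have := DerLib.Devissage.isIso_homology_truncGTπ Y (-1) 0 (by omega)
      exact hY.of_iso (asIso ((DerivedCategory.homologyFunctor (ModuleCat.{u} R) 0).map ((t.truncGTπ (-1)).app Y))).symm
  haveI : DerivedCategory.IsLE (DerivedCategory.Q.obj P) 0 := by
    rw [DerivedCategory.isLE_iff]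
    exact fun j hj => DRingLib.isZero_Hn_Q P j (HomologicalComplex.isZero_single_obj_X _ _ _ _ (by omega))
  obtain ⟨ψ, hψ⟩ := Triangle.coyoneda_exact₂ _ hT φ (t.zero_of_isLE_of_isGE _ 0 1 (by omega) inferInstance (inferInstanceAs (t.IsGE ((t.truncGT (-1)).obj Y) 1)))
  haveI hLE : ((t.truncLE (-1)).obj Y).IsLE (-1) := inferInstanceAs (t.IsLE ((t.truncLE (-1)).obj Y) (-1))
  obtain ⟨C, hC, ⟨e⟩⟩ := DerivedCategory.exists_iso_Q_obj_of_isLE ((t.truncLE (-1)).obj Y) (-1)
  obtain ⟨f, hf⟩ := DRingLib.Q_map_surjective P C (ψ ≫ e.hom)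
  have hf0 : f = 0 := by
    ext j : 1
    by_cases hj : j = 0
    · subst hj
      exact (C.isZero_of_isStrictlyLE (-1) 0 (by omega)).eq_of_tgt _ _
    · exact (HomologicalComplex.isZero_single_obj_X (ComplexShape.up ℤ) 0 (ModuleCat.of R R) j hj).eq_of_src _ _
  have hψ0 : ψ = 0 := by
    rw [← cancel_mono e.hom, ← hf, hf0, Functor.map_zero, zero_comp]
  rw [hψ, hψ0]
  exact zero_comp

end Ring

section Affine

variable (A : CommRingCat.{u})

/-- On an affine scheme, no map from the structure sheaf into a degree without cohomology. -/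
theorem noHom_affine {K : DCoh.D (Spec A)} (hK : DCoh.IsQCohD K) (m : ℤ) (h : IsZero (DCoh.HD K m)) :
    FMKLib.NoHom K m := by
  obtain ⟨N, ⟨eN⟩⟩ := (TildeDerLib.isQCohD_iff A K).1 hK
  obtain ⟨c⟩ := KoszOrthLib.nonempty_tildeD_single_self A
  intro φ
  haveI : (DCoh.tildeD A).Full := (TildeDerLib.adjD A).fullyFaithfulLOfIsIsoUnit.full
  obtain ⟨g, hg⟩ := (DCoh.tildeD A).map_surjective
    (c.hom ≫ φ ≫ (shiftFunctor _ m).map eN.inv ≫ ((DCoh.tildeD A).commShiftIso m).inv.app N)
  have hN : IsZero ((DerivedCategory.homologyFunctor (ModuleCat.{u} A) m).obj N) :=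
    (KoszOrthLib.isZero_tD_homology_iff (A := A) N m).1
      (h.of_iso ((DerivedCategory.homologyFunctor (Spec A).Modules m).mapIso eN))
  have hz : IsZero ((DerivedCategory.homologyFunctor (ModuleCat.{u} A) 0).obj (N⟦m⟧)) :=
    hN.of_iso (((DerivedCategory.homologyFunctor (ModuleCat.{u} A) 0).shiftIso m 0 m (by omega)).app N)
  rw [hom_single_eq_zero _ hz g, Functor.map_zero] at hg
  rw [← cancel_epi c.hom, ← cancel_mono ((shiftFunctor _ m).map eN.inv ≫
    ((DCoh.tildeD A).commShiftIso m).inv.app N), comp_zero, zero_comp, Category.assoc]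
  exact hg.symm

end Affine

variable {A : Type u} [CommRing A] {X : Scheme.{u}} (f : X ⟶ Spec (CommRingCat.of A))
  [QuasiCompact f] [QuasiSeparated f]

include f in
/-- A uniform bound for the hypercohomology of objects with quasi-coherent cohomology. -/
theorem exists_noHom_bound : ∃ d : ℤ, ∀ (E : DCoh.D X), DCoh.IsQCohD E → ∀ b : ℤ, E.IsLE b → ∀ m : ℤ, b + d ≤ m →
    FMKLib.NoHom E m := by
  haveI := DCohRestrLib.hasRpush f
  haveI := DCohRestrLib.hasRΓ X
  haveI := DCohRestrLib.hasRΓ (Spec (CommRingCat.of A))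
  obtain ⟨d, hd⟩ := QRlimLib.exists_uniform_bound f
  refine ⟨d, fun E hE b hb m hm => ?_⟩
  obtain ⟨e⟩ := DCohRestrLib.nonempty_RΓ_Rpush f
  rw [← FMKLib.isZero_RΓ_iff]
  refine IsZero.of_iso ?_ ((DerivedCategory.homologyFunctor AddCommGrpCat.{u} m).mapIso (e.app E)).symm
  exact (FMKLib.isZero_RΓ_iff _ m).2 (noHom_affine _ (QRlimLib.isQCohD_rpush f hE) m (hd E hE b hb m hm))

include f in
/-- Hypercohomology vanishes beyond the cohomological dimension. -/
theorem noHom_of_le (N : ℕ) (hN : ∀ (M : X.Modules), Coh.IsQCoh M → ∀ q : ℕ, N < q → Subsingleton (Coh.HH X M q))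
    (E : DCoh.D X) (hE : DCoh.IsQCohD E) (b : ℤ) [E.IsLE b] (m : ℤ) (hm : b + N < m) : FMKLib.NoHom E m := by
  obtain ⟨d, hd⟩ := exists_noHom_bound f
  let a : ℤ := min (m - d) (b - 1)
  refine FMKLib.noHom_obj₂ _ (t.triangleLEGT_distinguished a E) ?_ ?_
  · exact hd _ (fun q => by
      by_cases hq : q ≤ a
      · have := DerLib.Devissage.isIso_homology_truncLEι E a q hq
        exact @QCohLib.isQCoh_of_iso _ _ _
          (asIso ((DerivedCategory.homologyFunctor X.Modules q).map ((t.truncLEι a).app E))).symm (hE q)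
      · haveI : ((t.truncLE a).obj E).IsLE a := inferInstanceAs (t.IsLE ((t.truncLE a).obj E) a)
        exact KFlatLib.isQCoh_zero (DerivedCategory.isZero_of_isLE ((t.truncLE a).obj E) a q (by omega))) a
      (inferInstanceAs (t.IsLE ((t.truncLE a).obj E) a)) m (by omega)
  · haveI : ((t.truncGT a).obj E).IsGE (a + 1) := inferInstanceAs (t.IsGE ((t.truncGT a).obj E) (a + 1))
    haveI : ((t.truncGT a).obj E).IsLE b := by
      rw [DerivedCategory.isLE_iff]
      intro j hj
      have := DerLib.Devissage.isIso_homology_truncGTπ E a j (by omega)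
      exact (DerivedCategory.isZero_of_isLE E b j hj).of_iso
        (asIso ((DerivedCategory.homologyFunctor X.Modules j).map ((t.truncGTπ a).app E))).symm
    refine FMKLib.noHom_of_HD ((t.truncGT a).obj E) (a + 1) b m fun q hq => ?_
    by_cases hqb : q ≤ b
    · refine hN _ ?_ _ (by omega)
      by_cases hqa : a < q
      · have := DerLib.Devissage.isIso_homology_truncGTπ E a q hqa
        exact @QCohLib.isQCoh_of_iso _ _ _
          (asIso ((DerivedCategory.homologyFunctor X.Modules q).map ((t.truncGTπ a).app E))) (hE q)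
      · exact KFlatLib.isQCoh_zero (DerivedCategory.isZero_of_isGE _ (a + 1) q (by omega))
    · exact AVIndexLib.subsingleton_HH_isZero (DerivedCategory.isZero_of_isLE _ b q (by omega)) _

omit [QuasiCompact f] [QuasiSeparated f] in
/-- Cohomology of a separated scheme covered by `N + 1` affine opens vanishes above `N`. -/
theorem subsingleton_HH_of_cover [IsSeparated f] (N : ℕ) (U : Fin (N + 1) → X.Opens)
    (hU : ∀ i, IsAffineOpen (U i)) (hcov : ⨆ i, U i = ⊤) (M : X.Modules) (hM : Coh.IsQCoh M) (q : ℕ) (hq : N < q) :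
    Subsingleton (Coh.HH X M q) := by
  haveI := hM
  haveI : X.IsSeparated := ⟨by rw [← terminal.comp_from f]; infer_instance⟩
  exact Groth.Agent.S0010.result X (N + 1) U hU hcov (fun V W hV hW => hV.inf hW) M q (by omega)

omit [QuasiCompact f] [QuasiSeparated f] in
/-- Global sections as modules, on underlying groups. -/
def gsForget : HTor.globalSectionsA f ⋙ forget₂ (ModuleCat.{u} A) AddCommGrpCat.{u} ≅ DCoh.gammaAb X :=
  NatIso.ofComponents (fun M => Iso.refl _) (fun _ => rfl)

omit [QuasiCompact f] [QuasiSeparated f] in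
/-- `H^m(RΓ(X, K))` as an `A`-module vanishes with the hypercohomology group. -/
theorem isZero_Hn_RΓA [HTor.HasRΓA f] [DCoh.HasRΓ X] (K : DCoh.D X) (m : ℤ)
    (h : IsZero ((DerivedCategory.homologyFunctor AddCommGrpCat.{u} m).obj ((DCoh.RΓ X).obj K))) :
    IsZero ((DerivedCategory.homologyFunctor (ModuleCat.{u} A) m).obj ((HTor.RΓA f).obj K)) := by
  obtain ⟨I, hI, ⟨e⟩⟩ := DerLib.KInjDerived.essSurj_kInjective KFlatLib.enoughKInj_modules K
  let G := (DCoh.gammaAb X).mapHomologicalComplex (ComplexShape.up ℤ)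
  let H := (HTor.globalSectionsA f).mapHomologicalComplex (ComplexShape.up ℤ)
  let α := (HTor.gammaAKh f).totalRightDerivedUnit DerivedCategory.Qh
    (HomotopyCategory.quasiIso X.Modules (ComplexShape.up ℤ))
  haveI := DerLib.KInjDerived.isIso_app (DCoh.RΓ X) (DCohRestrLib.gammaUnit X) KFlatLib.enoughKInj_modules I
  haveI := DerLib.KInjDerived.isIso_app (HTor.RΓA f) α KFlatLib.enoughKInj_modules I
  let eΓ : DerivedCategory.Q.obj (G.obj I) ≅ (DCoh.RΓ X).obj K :=
    ((DerivedCategory.quotientCompQhIso AddCommGrpCat.{u}).app (G.obj I)).symm ≪≫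
      DerivedCategory.Qh.mapIso (((DCoh.gammaAb X).mapHomotopyCategoryFactors (ComplexShape.up ℤ)).app I).symm ≪≫
      asIso ((DCohRestrLib.gammaUnit X).app ((HomotopyCategory.quotient X.Modules (ComplexShape.up ℤ)).obj I)) ≪≫
        (DCoh.RΓ X).mapIso e
  let eA : DerivedCategory.Q.obj (H.obj I) ≅ (HTor.RΓA f).obj K :=
    ((DerivedCategory.quotientCompQhIso (ModuleCat.{u} A)).app (H.obj I)).symm ≪≫
      DerivedCategory.Qh.mapIso (((HTor.globalSectionsA f).mapHomotopyCategoryFactors (ComplexShape.up ℤ)).app I).symm ≪≫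
      asIso (α.app ((HomotopyCategory.quotient X.Modules (ComplexShape.up ℤ)).obj I)) ≪≫
        (HTor.RΓA f).mapIso e
  have h1 : IsZero ((G.obj I).homology m) :=
    h.of_iso (((DerivedCategory.homologyFunctorFactors AddCommGrpCat.{u} m).app (G.obj I)).symm ≪≫
      (DerivedCategory.homologyFunctor AddCommGrpCat.{u} m).mapIso eΓ)
  let F := forget₂ (ModuleCat.{u} A) AddCommGrpCat.{u}
  have h2 : IsZero (F.obj ((H.obj I).homology m)) :=
    h1.of_iso ((((H.obj I).sc m).mapHomologyIso F).symm ≪≫
      (HomologicalComplex.homologyFunctor _ _ m).mapIso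
        ((NatIso.mapHomologicalComplex (gsForget f) (ComplexShape.up ℤ)).app I))
  haveI : Subsingleton ((H.obj I).homology m) := AddCommGrpCat.subsingleton_of_isZero h2
  exact (ModuleCat.isZero_of_subsingleton ((H.obj I).homology m)).of_iso
    ((DerivedCategory.homologyFunctor (ModuleCat.{u} A) m).mapIso eA.symm ≪≫
      (DerivedCategory.homologyFunctorFactors (ModuleCat.{u} A) m).app (H.obj I))

/-- The amplitude above of `RΓ(X, P)`. -/
theorem isZero_Hn_RΓA_above [IsSeparated f] [HTor.HasRΓA f] (N : ℕ) (U : Fin (N + 1) → X.Opens)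
    (hU : ∀ i, IsAffineOpen (U i)) (hcov : ⨆ i, U i = ⊤) (P : CochainComplex X.Modules ℤ)
    (hq : ∀ i : ℤ, Coh.IsQCoh (P.X i)) (b : ℤ) (hb : ∀ i : ℤ, b < i → IsZero (P.X i)) (m : ℤ) (hm : b + N < m) :
    IsZero ((DerivedCategory.homologyFunctor (ModuleCat.{u} A) m).obj ((HTor.RΓA f).obj (DCoh.toD X P))) := by
  haveI := DCohRestrLib.hasRΓ X
  haveI : (DCoh.toD X P).IsLE b := by
    rw [DerivedCategory.isLE_iff]
    exact fun j hj => (ShortComplex.isZero_homology_of_isZero_X₂ (P.sc j) (hb j hj)).of_iso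
      ((DerivedCategory.homologyFunctorFactors X.Modules j).app P)
  refine isZero_Hn_RΓA f _ m ((FMKLib.isZero_RΓ_iff _ m).2 ?_)
  refine noHom_of_le f N (fun M hM q h => subsingleton_HH_of_cover f N U hU hcov M hM q h) _ (fun q => ?_) b m hm
  exact @QCohLib.isQCoh_of_iso _ _ _ ((DerivedCategory.homologyFunctorFactors X.Modules q).app P).symm
    (KFlatLib.isQCoh_homology_of_terms P hq q)

end RGammaBoundLib
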