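import Groth.Agent.DRingLib.Basic
import Mathlib.CategoryTheory.Abelian.Projective.Dimension
import Mathlib.Algebra.Homology.Embedding.CochainComplex

/-!
# Projective truncations in finite global dimension
-/

set_option autoImplicit false
set_option linter.style.haveILetI false
set_option backward.isDefEq.respectTransparency false
set_option backward.isDefEq.respectTransparency.types false

universe w v u

open CategoryTheory CategoryTheory.Limits HomologicalComplex

namespace RGammaBoundLib

variable {C : Type u} [Category.{v} C] [Abelian C] [HasExt.{w} C]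

theorem projective_opcycles (K : CochainComplex C ℤ) (d : ℕ) (hC : ∀ M : C, HasProjectiveDimensionLT M (d + 1))
    (hp : ∀ i, Projective (K.X i)) (a : ℤ) (hK : ∀ i, i < a → IsZero (K.homology i)) :
    Projective (K.opcycles (a - d)) := by
  have key : ∀ k : ℕ, k ≤ d → HasProjectiveDimensionLT (K.opcycles (a - k)) (d + 1 - k) := by
    intro k
    induction k with
    | zero => intro _; exact hC _
    | succ k ih =>
      intro hk
      obtain ⟨i, hi⟩ : ∃ i : ℤ, i = a - (k + 1 : ℕ) := ⟨_, rfl⟩
      rw [← hi]
      have hw : K.fromOpcycles i (i + 1) ≫ K.pOpcycles (i + 1) = 0 := by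
        rw [← cancel_epi (K.pOpcycles i), ← Category.assoc, p_fromOpcycles, d_pOpcycles, comp_zero]
      have hmono : Mono (K.fromOpcycles i (i + 1)) :=
        Preadditive.mono_of_isZero_kernel' _ (K.homologyIsKernel i (i + 1) (by simp)) (hK i (by omega))
      have hS : (ShortComplex.mk (K.fromOpcycles i (i + 1)) (K.pOpcycles (i + 1)) hw).ShortExact :=
        { exact := by
            have h := ShortComplex.exact_of_g_is_cokernel (ShortComplex.mk (K.d i (i + 1)) (K.pOpcycles (i + 1))
              (K.d_pOpcycles _ _)) (K.opcyclesIsCokernel i (i + 1) (by simp))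
            exact (ShortComplex.exact_iff_of_epi_of_isIso_of_mono
              ({ τ₁ := K.pOpcycles i, τ₂ := 𝟙 _, τ₃ := 𝟙 _ } :
                ShortComplex.mk (K.d i (i + 1)) (K.pOpcycles (i + 1)) (K.d_pOpcycles _ _) ⟶
                  ShortComplex.mk (K.fromOpcycles i (i + 1)) (K.pOpcycles (i + 1)) hw)).1 h
          mono_f := hmono
          epi_g := inferInstanceAs (Epi (K.pOpcycles (i + 1))) }
      have h₃ := ih (by omega)
      rw [show a - (k : ℤ) = i + 1 by omega, show d + 1 - k = (d - k) + 1 by omega] at h₃
      rw [show d + 1 - (k + 1) = d - k by omega]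
      haveI := hp (i + 1)
      haveI h₂ : HasProjectiveDimensionLT (K.X (i + 1)) (d - k) :=
        hasProjectiveDimensionLT_of_ge _ 1 _ (by omega)
      exact hS.hasProjectiveDimensionLT_X₁ (d - k) h₂ h₃
  have h := key d le_rfl
  rw [show d + 1 - d = 1 by omega] at h
  exact projective_iff_hasProjectiveDimensionLT_one.mpr h

/-- Truncation of a complex of projectives stays projective. -/
theorem exists_projective_trunc (K : CochainComplex C ℤ) (d : ℕ) (hC : ∀ M : C, HasProjectiveDimensionLT M (d + 1))
    (hp : ∀ i, Projective (K.X i)) (a : ℤ) (hK : ∀ i, i < a → IsZero (K.homology i)) (b : ℤ)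
    (hb : ∀ i, b < i → IsZero (K.X i)) (hab : a ≤ b) :
    ∃ (L : CochainComplex C ℤ) (π : K ⟶ L), QuasiIso π ∧ (∀ i, Projective (L.X i)) ∧
      ∀ i : ℤ, i < a - d ∨ b < i → IsZero (L.X i) := by
  refine ⟨K.truncGE (a - d), K.πTruncGE (a - d), ?_, fun i => ?_, fun i hi => ?_⟩
  · rw [CochainComplex.quasiIso_πTruncGE_iff, CochainComplex.isGE_iff]
    exact fun j hj => (exactAt_iff_isZero_homology _ _).2 (hK j (by omega))
  · by_cases hi : i < a - d
    · exact Projective.of_iso ((CochainComplex.isZero_of_isStrictlyGE (K.truncGE (a - d)) (a - d) i hi).iso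
        (isZero_zero C)).symm inferInstance
    · by_cases hi0 : i = a - d
      · subst hi0
        exact Projective.of_iso (CochainComplex.truncGEXIsoOpcycles K (a - d)).symm
          (projective_opcycles K d hC hp a hK)
      · exact Projective.of_iso (CochainComplex.truncGEXIso K (a - d) i (by omega)).symm (hp i)
  · rcases hi with hi | hi
    · exact CochainComplex.isZero_of_isStrictlyGE (K.truncGE (a - d)) (a - d) i hi
    · exact (hb i hi).of_iso (CochainComplex.truncGEXIso K (a - d) i (by omega))

end RGammaBoundLib
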